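import Mathlib.AlgebraicGeometry.IdealSheaf.Subscheme
import Mathlib.AlgebraicGeometry.Morphisms.FinitePresentation
import Mathlib.RingTheory.Localization.AtPrime.Basic

/-!
# Ideal sheaves of finite type: generic points and finite presentation
-/

set_option autoImplicit false
universe u
open CategoryTheory CategoryTheory.Limits AlgebraicGeometry TopologicalSpace Opposite

noncomputable section

namespace FittStratLib

/-- In a ring, an element of a minimal prime is killed, up to a power, off that prime. -/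
theorem exists_mul_pow_eq_zero {A : Type u} [CommRing A] (p : Ideal A) [p.IsPrime]
    (hmin : ∀ q : Ideal A, q.IsPrime → q ≤ p → q = p) {a : A} (ha : a ∈ p) :
    ∃ (g : A) (n : ℕ), g ∉ p ∧ g * a ^ n = 0 := by
  have hnil : IsNilpotent (algebraMap A (Localization.AtPrime p) a) := by
    rw [nilpotent_iff_mem_prime]
    intro Q hQ
    have hle : Q.comap (algebraMap A (Localization.AtPrime p)) ≤ p := by
      intro x hx
      by_contra hxp
      exact hQ.ne_top (Ideal.eq_top_of_isUnit_mem _ hx
        (IsLocalization.map_units _ (⟨x, hxp⟩ : p.primeCompl)))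
    have heq := hmin _ (Ideal.IsPrime.comap _) hle
    exact Ideal.mem_comap.mp (heq.ge ha)
  obtain ⟨n, hn⟩ := hnil
  rw [← map_pow] at hn
  obtain ⟨⟨g, hg⟩, h⟩ := (IsLocalization.map_eq_zero_iff p.primeCompl (Localization.AtPrime p) _).mp hn
  exact ⟨g, n, hg, h⟩

variable {X : Scheme.{u}}

/-- A generic point in the closed set of an ideal of finite type is an interior point of it. -/
theorem mem_interior_support_of_generic (I : X.IdealSheafData)
    (hfg : ∀ U : X.affineOpens, (I.ideal U).FG) {y : X} (hy : ∀ x : X, x ⤳ y → x = y)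
    (hyI : y ∈ I.support) : y ∈ interior (I.support : Set X) := by
  classical
  obtain ⟨U, hU, hyU, -⟩ := exists_isAffineOpen_mem_and_subset (X := X) (x := y) (U := ⊤) trivial
  have key : ∀ (a : Γ(X, U)) (q : Spec Γ(X, U)), hU.fromSpec q ∈ X.basicOpen a ↔ a ∉ q.asIdeal := by
    intro a q
    show q ∈ hU.fromSpec ⁻¹ᵁ X.basicOpen a ↔ _
    rw [hU.fromSpec_preimage_basicOpen]
    rfl
  obtain ⟨p, hp⟩ : ∃ p, hU.fromSpec p = y := hU.range_fromSpec.ge hyU
  have hmin : ∀ q : Ideal Γ(X, U), q.IsPrime → q ≤ p.asIdeal → q = p.asIdeal := by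
    intro q hq hle
    have hsp : (⟨q, hq⟩ : Spec Γ(X, U)) ⤳ p := (PrimeSpectrum.le_iff_specializes _ _).mp hle
    have h1 := hy _ (hp ▸ hsp.map hU.fromSpec.continuous)
    exact congrArg PrimeSpectrum.asIdeal (hU.fromSpec.isOpenEmbedding.injective (h1.trans hp.symm))
  rw [Scheme.IdealSheafData.mem_support_iff_of_mem (U := ⟨U, hU⟩) hyU, Scheme.mem_zeroLocus_iff] at hyI
  obtain ⟨s, hs⟩ := hfg ⟨U, hU⟩
  have hsp : ∀ a ∈ s, a ∈ p.asIdeal := fun a ha => by
    by_contra h
    exact hyI a (hs ▸ Ideal.subset_span ha) (hp ▸ (key a p).mpr h)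
  choose g n hg hgn using fun (a : s) => exists_mul_pow_eq_zero p.asIdeal hmin (hsp a.1 a.2)
  have hg0 : (∏ a : s, g a) ∉ p.asIdeal := fun h => by
    obtain ⟨a, -, ha⟩ := p.2.prod_mem_iff.mp h
    exact hg a ha
  refine mem_interior.mpr ⟨X.basicOpen (∏ a : s, g a), fun x hx => ?_, (X.basicOpen _).isOpen,
    hp ▸ (key _ p).mpr hg0⟩
  have hxU : x ∈ U := X.basicOpen_le _ hx
  obtain ⟨q, hq⟩ : ∃ q, hU.fromSpec q = x := hU.range_fromSpec.ge hxU
  subst hq
  rw [SetLike.mem_coe, Scheme.IdealSheafData.mem_support_iff_of_mem (U := ⟨U, hU⟩) hxU,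
    Scheme.mem_zeroLocus_iff]
  intro b hb hbq
  have hgq := (key _ q).mp hx
  have hle : I.ideal ⟨U, hU⟩ ≤ q.asIdeal := by
    rw [← hs, Ideal.span_le]
    intro a ha
    have hga : g ⟨a, ha⟩ ∉ q.asIdeal := fun h =>
      hgq (q.2.prod_mem_iff.mpr ⟨_, Finset.mem_univ _, h⟩)
    have h0 : g ⟨a, ha⟩ * a ^ n ⟨a, ha⟩ ∈ q.asIdeal := by rw [hgn]; exact zero_mem _
    exact q.2.mem_of_pow_mem _ ((q.2.mem_or_mem h0).resolve_left hga)
  exact (key b q).mp hbq (hle hb)

/-- A closed subscheme cut out by finitely generated ideals is of finite presentation. -/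
theorem lfp_subschemeι (I : X.IdealSheafData) (hfg : ∀ U : X.affineOpens, (I.ideal U).FG) :
    LocallyOfFinitePresentation I.subschemeι := by
  refine IsZariskiLocalAtSource.of_openCover I.subschemeCover.openCover fun U => ?_
  show LocallyOfFinitePresentation (I.subschemeCover.f U ≫ I.subschemeι)
  rw [Scheme.IdealSheafData.subschemeCover_map_subschemeι, Scheme.IdealSheafData.glueDataObjι_ι]
  have : IsOpenImmersion U.2.fromSpec := IsAffineOpen.isOpenImmersion_fromSpec U.2
  have : LocallyOfFinitePresentation (Spec.map (CommRingCat.ofHom (Ideal.Quotient.mk (I.ideal U)))) := by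
    rw [HasRingHomProperty.Spec_iff (P := @LocallyOfFinitePresentation)]
    exact RingHom.FinitePresentation.of_surjective _ Ideal.Quotient.mk_surjective
      ((Ideal.mk_ker (I := I.ideal U)).symm ▸ hfg U)
  exact MorphismProperty.comp_mem _ _ _ ‹_› (inferInstanceAs (LocallyOfFinitePresentation U.2.fromSpec))

end FittStratLib

end
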