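import Groth.Agent.FittStratLib.Basic
import Groth.Prelude.Def_Mor2
import Mathlib.AlgebraicGeometry.Morphisms.FlatRank
import Mathlib.RingTheory.LocalProperties.FinitePresentation
import Mathlib.RingTheory.Spectrum.Prime.FreeLocus
import Mathlib.RingTheory.Flat.Localization

/-!
# Finite locally free morphisms from Fitting ideals
-/

set_option autoImplicit false
universe u
open CategoryTheory CategoryTheory.Limits AlgebraicGeometry TopologicalSpace Opposite TensorProduct

noncomputable section

namespace FittStratLib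

section Algebra

variable {R : Type u} [CommRing R] {M : Type u} [AddCommGroup M] [Module R M] [Module.Finite R M]

theorem locFree_of_ideals (n : ℕ) (h1 : ∀ k, k < n → Fitt.ideal R M k = ⊥)
    (h2 : Fitt.ideal R M n = ⊤) :
    Module.FinitePresentation R M ∧ Module.Flat R M ∧ ∀ p, Module.rankAtStalk (R := R) M p = n := by
  classical
  let s : Set R := {a | Module.Free (Localization.Away a) (LocalizedModule.Away a M)}
  have hs : Ideal.span s = ⊤ := by
    by_contra hne
    obtain ⟨p, hp, hle⟩ := Ideal.exists_le_maximal _ hne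
    obtain ⟨a, ha, hfree, -⟩ := FittLib.localFree_of_ideals n h1 h2 p
    exact ha (hle (Ideal.subset_span hfree))
  have hfin : ∀ a : s, Module.Finite (Localization.Away a.1) (LocalizedModule.Away a.1 M) := fun a =>
    Module.Finite.of_isLocalizedModule (Submonoid.powers a.1)
      (LocalizedModule.mkLinearMap (Submonoid.powers a.1) M)
  have hfp : Module.FinitePresentation R M :=
    Module.FinitePresentation.of_localizationSpan s hs fun a => by
      haveI : Module.Free (Localization.Away a.1) (LocalizedModule.Away a.1 M) := a.2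
      haveI := hfin a
      exact Module.finitePresentation_of_projective _ _
  have hflat : Module.Flat R M :=
    Module.flat_of_localized_span (S := R) (M := M) (s := s) (spn := hs) fun a => by
      haveI : Module.Free (Localization.Away a.1) (LocalizedModule.Away a.1 M) := a.2
      haveI := IsLocalization.flat (Localization.Away a.1) (Submonoid.powers a.1)
      exact Module.Flat.trans R (Localization.Away a.1) _
  refine ⟨hfp, hflat, fun p => ?_⟩
  rw [Module.rankAtStalk_eq]
  refine le_antisymm ((FittLib.finrank_fibre_le_iff p.asIdeal n).mp ?_) (not_lt.mp fun hlt => ?_)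
  · rw [h2, top_le_iff]
    exact p.2.ne_top
  · refine (FittLib.finrank_fibre_le_iff p.asIdeal (n - 1)).mpr (Nat.le_sub_one_of_lt hlt) ?_
    rw [h1 (n - 1) (by omega)]
    exact bot_le

end Algebra

variable {X Y : Scheme.{u}} (f : X ⟶ Y)

theorem isPullback_SpecMap [IsAffineHom f] {U : Y.Opens} (hU : IsAffineOpen U) :
    IsPullback (hU.preimage f).fromSpec (Spec.map (f.app U)) f hU.fromSpec := by
  have hfs : Spec.map (f.app U) ≫ hU.fromSpec = (hU.preimage f).fromSpec ≫ f := by
    rw [Scheme.Hom.app_eq_appLE]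
    exact IsAffineOpen.SpecMap_appLE_fromSpec f hU (hU.preimage f) le_rfl
  refine (IsOpenImmersion.isPullback (Spec.map (f.app U)) (hU.preimage f).fromSpec hU.fromSpec f
    hfs.symm ?_).flip
  rw [IsAffineOpen.opensRange_fromSpec, IsAffineOpen.opensRange_fromSpec]

/-- A property local on the target is checked on the ring maps of an affine hom. -/
theorem of_SpecMap {P : MorphismProperty Scheme.{u}} [IsZariskiLocalAtTarget P]
    [P.IsStableUnderBaseChange] [IsAffineHom f]
    (H : ∀ U : Y.Opens, IsAffineOpen U → P (Spec.map (f.app U))) : P f := by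
  refine IsZariskiLocalAtTarget.of_iSup_eq_top (fun U : Y.affineOpens => U.1)
    (iSup_affineOpens_eq_top Y) fun U => ?_
  have hpb := isPullback_SpecMap f U.2
  have hι : U.2.isoSpec.hom ≫ U.2.fromSpec = U.1.ι := U.2.isoSpec_hom_fromSpec
  let l := hpb.lift (f ⁻¹ᵁ U.1).ι ((f ∣_ U.1) ≫ U.2.isoSpec.hom)
    (by rw [Category.assoc, hι, morphismRestrict_ι])
  have hbig : IsPullback (l ≫ (U.2.preimage f).fromSpec) (f ∣_ U.1) f
      (U.2.isoSpec.hom ≫ U.2.fromSpec) := by
    rw [hpb.lift_fst, hι]
    exact (isPullback_morphismRestrict f U.1).flip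
  exact MorphismProperty.of_isPullback (IsPullback.of_right hbig (hpb.lift_snd _ _ _) hpb) (H U.1 U.2)

/-- The degree criterion through Fitting ideals. -/
theorem isFinLocFreeOfDeg_of_fitt [IsFinite f] (n : ℕ) (h1 : ∀ k, k < n → fitt f k = ⊥)
    (h2 : fitt f n = ⊤) : Mor2.IsFinLocFreeOfDeg n f := by
  have key : ∀ U : Y.Opens, IsAffineOpen U →
      letI := (f.app U).hom.toAlgebra
      Module.Finite Γ(Y, U) Γ(X, f ⁻¹ᵁ U) ∧ Module.FinitePresentation Γ(Y, U) Γ(X, f ⁻¹ᵁ U) ∧
        Module.Flat Γ(Y, U) Γ(X, f ⁻¹ᵁ U) ∧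
          ∀ p, Module.rankAtStalk (R := Γ(Y, U)) Γ(X, f ⁻¹ᵁ U) p = n := by
    intro U hU
    algebraize [(f.app U).hom]
    haveI : Module.Finite Γ(Y, U) Γ(X, f ⁻¹ᵁ U) := f.finite_app U hU
    refine ⟨‹_›, locFree_of_ideals n (fun k hk => ?_) ?_⟩
    · have := congrArg (fun I : Y.IdealSheafData => I.ideal ⟨U, hU⟩) (h1 k hk)
      simpa [fitt_ideal, RFitt] using this
    · have := congrArg (fun I : Y.IdealSheafData => I.ideal ⟨U, hU⟩) h2
      simpa [fitt_ideal, RFitt] using this
  have hflat : Flat f := by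
    refine of_SpecMap f fun U hU => Flat.SpecMap_iff.mpr ?_
    exact (key U hU).2.2.1
  have hlfp : LocallyOfFinitePresentation f := by
    refine of_SpecMap f fun U hU => ?_
    rw [HasRingHomProperty.Spec_iff (P := @LocallyOfFinitePresentation)]
    obtain ⟨_, hfp, -, -⟩ := key U hU
    algebraize [(f.app U).hom]
    exact Algebra.FinitePresentation.of_finitePresentation Γ(Y, U) Γ(X, f ⁻¹ᵁ U)
  refine ⟨⟨inferInstance, hflat, hlfp⟩, fun y => ?_⟩
  obtain ⟨U, hU, hy, -⟩ := exists_isAffineOpen_mem_and_subset (X := Y) (x := y) (U := ⊤) trivial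
  obtain ⟨z, rfl⟩ : ∃ z, hU.fromSpec z = y := hU.range_fromSpec.ge hy
  rw [← Scheme.Hom.finrank_of_isPullback _ _ _ _ (isPullback_SpecMap f hU) z]
  obtain ⟨_, _, _, hrk⟩ := key U hU
  algebraize [(f.app U).hom]
  exact (Scheme.Hom.finrank_SpecMap_algebraMap Γ(Y, U) Γ(X, f ⁻¹ᵁ U) z).trans (hrk z)

end FittStratLib

end
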