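import Groth.Agent.FittStratLib.Thick
import Mathlib.AlgebraicGeometry.Morphisms.Immersion
import Mathlib.RingTheory.Spectrum.Prime.Topology

/-!
# Invariant affine basic opens for a quasi-affine groupoid
-/

set_option autoImplicit false
universe u
open CategoryTheory CategoryTheory.Limits AlgebraicGeometry TopologicalSpace Opposite

noncomputable section

namespace FittStratLib

section Immersion

variable {U : Scheme.{u}} {A : Type u} [CommRing A] (j : U ⟶ Spec (CommRingCat.of A)) (I : Ideal A)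

/-- Prime avoidance for a finite set of points. -/
theorem exists_mem_forall_notMem (P : Set (PrimeSpectrum A)) (hP : P.Finite)
    (h : ∀ p ∈ P, p ∉ PrimeSpectrum.zeroLocus (I : Set A)) :
    ∃ a ∈ I, ∀ p ∈ P, p ∈ PrimeSpectrum.basicOpen a := by
  classical
  rcases P.eq_empty_or_nonempty with rfl | ⟨p₀, hp₀⟩
  · exact ⟨0, I.zero_mem, fun p hp => absurd hp (Set.notMem_empty p)⟩
  have hnot : ¬ ((I : Set A) ⊆ ⋃ p ∈ (hP.toFinset : Set (PrimeSpectrum A)), (p.asIdeal : Set A)) := by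
    rw [Ideal.subset_union_prime (f := fun p : PrimeSpectrum A => p.asIdeal) p₀ p₀
      (fun p _ _ _ => p.isPrime)]
    rintro ⟨p, hp, hle⟩
    exact h p (hP.mem_toFinset.mp hp) hle
  obtain ⟨a, haI, ha⟩ := Set.not_subset.mp hnot
  refine ⟨a, haI, fun p hp hpa => ha ?_⟩
  simp only [Set.mem_iUnion]
  exact ⟨p, hP.mem_toFinset.mpr hp, hpa⟩

variable {I} (hcl : IsClosed (PrimeSpectrum.zeroLocus (I : Set A) ∪ Set.range j))

include hcl in
theorem isClosed_preimage_range {h : A} (hh : h ∈ I) :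
    IsClosed ((Scheme.Opens.ι (X := Spec (CommRingCat.of A)) (PrimeSpectrum.basicOpen h)) ⁻¹' Set.range j) := by
  set O : (Spec (CommRingCat.of A)).Opens := PrimeSpectrum.basicOpen h
  have heq : O.ι ⁻¹' Set.range j =
      O.ι ⁻¹' (PrimeSpectrum.zeroLocus (I : Set A) ∪ Set.range j) := by
    ext x
    refine ⟨fun hx => Or.inr hx, fun hx => hx.resolve_left fun hx0 => ?_⟩
    exact x.2 ((PrimeSpectrum.mem_zeroLocus _ _).mp hx0 hh)
  rw [heq]
  exact hcl.preimage O.ι.continuous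

include hcl in
theorem isAffineOpen_preimage [IsImmersion j] {h : A} (hh : h ∈ I) :
    IsAffineOpen (j ⁻¹ᵁ PrimeSpectrum.basicOpen h) := by
  let O : (Spec (CommRingCat.of A)).Opens := PrimeSpectrum.basicOpen h
  have hO : IsAffineOpen O := IsAffineOpen.Spec_basicOpen (R := CommRingCat.of A) h
  haveI : IsAffine O.toScheme := hO
  haveI : IsImmersion (j ∣_ O) := by
    haveI : IsImmersion ((j ∣_ O) ≫ O.ι) := by rw [morphismRestrict_ι]; infer_instance
    exact IsImmersion.of_comp (j ∣_ O) O.ι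
  have hrange : Set.range (j ∣_ O) = O.ι ⁻¹' Set.range j := by
    ext x
    constructor
    · rintro ⟨y, rfl⟩
      exact ⟨_, congrArg (fun m => m.base y) (morphismRestrict_ι j O).symm⟩
    · rintro ⟨y, hy⟩
      refine ⟨⟨y, show j y ∈ O by rw [hy]; exact x.2⟩, O.ι.isOpenEmbedding.injective ?_⟩
      rw [← Scheme.Hom.comp_apply, morphismRestrict_ι, Scheme.Hom.comp_apply]
      exact hy
  haveI : IsClosedImmersion (j ∣_ O) :=
    IsClosedImmersion.of_isPreimmersion _ (hrange ▸ isClosed_preimage_range j hcl hh)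
  exact isAffine_of_isAffineHom (j ∣_ O)

/-- An element of the ideal that cuts out a neighbourhood of finitely many points inside an open. -/
theorem exists_basicOpen_subset [IsImmersion j]
    (hI : ∀ x : U, j x ∉ PrimeSpectrum.zeroLocus (I : Set A)) (O : Set U) (hO : IsOpen O)
    (P : Set U) (hP : P.Finite) (hPO : P ⊆ O) :
    ∃ h ∈ I, (∀ x : U, j x ∈ PrimeSpectrum.basicOpen h → x ∈ O) ∧
      ∀ x ∈ P, j x ∈ PrimeSpectrum.basicOpen h := by
  let K : Set (PrimeSpectrum A) := closure (j '' Oᶜ)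
  let J := PrimeSpectrum.vanishingIdeal K
  have hK : ∀ x ∈ O, j x ∉ K := by
    intro x hx hxK
    have h1 : x ∈ j ⁻¹' closure (j '' Oᶜ) := hxK
    rw [← j.isEmbedding.closure_eq_preimage_closure_image, hO.isClosed_compl.closure_eq] at h1
    exact h1 hx
  have hz : ∀ p ∈ j '' P, p ∉ PrimeSpectrum.zeroLocus ((I ⊓ J : Ideal A) : Set A) := by
    rintro _ ⟨x, hx, rfl⟩ h1
    have h2 : I ⊓ J ≤ (j x).asIdeal := h1
    rcases (j x).isPrime.inf_le.mp h2 with h3 | h3
    · exact hI x h3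
    · have h4 : j x ∈ PrimeSpectrum.zeroLocus (J : Set A) := h3
      rw [PrimeSpectrum.zeroLocus_vanishingIdeal_eq_closure, closure_closure] at h4
      exact hK x (hPO hx) h4
  obtain ⟨h, hh, hhP⟩ := exists_mem_forall_notMem (I ⊓ J) (j '' P) (hP.image j) hz
  refine ⟨h, (Ideal.mem_inf.mp hh).1, fun x hx => ?_, fun x hx => hhP _ ⟨x, hx, rfl⟩⟩
  by_contra hxO
  exact hx ((PrimeSpectrum.mem_vanishingIdeal _ _).mp (Ideal.mem_inf.mp hh).2 (j x)
    (subset_closure ⟨x, hxO, rfl⟩))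

end Immersion

variable {S : Scheme.{u}} (G : Grpd.GroupoidScheme S) [IsFinite G.s] [IsFinite G.t]
  [LocallyOfFinitePresentation G.s]

theorem exists_invariant_basicOpen {m : ℕ} (u : Fin m → G.U)
    (hu : ∀ i (r : G.R), G.s r = u i → ∀ x : G.U, x ⤳ G.t r → x = G.t r) {A : Type u} [CommRing A]
    (j : G.U ⟶ Spec (CommRingCat.of A)) [IsImmersion j] {I : Ideal A}
    (hI : ∀ x : G.U, j x ∉ PrimeSpectrum.zeroLocus (I : Set A))
    (hcl : IsClosed (PrimeSpectrum.zeroLocus (I : Set A) ∪ Set.range j)) :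
    ∃ h ∈ I, IsAffineOpen (j ⁻¹ᵁ PrimeSpectrum.basicOpen h) ∧
      (∀ i, u i ∈ j ⁻¹ᵁ PrimeSpectrum.basicOpen h) ∧
      G.s ⁻¹ᵁ (j ⁻¹ᵁ PrimeSpectrum.basicOpen h) = G.t ⁻¹ᵁ (j ⁻¹ᵁ PrimeSpectrum.basicOpen h) := by
  classical
  obtain ⟨W', hW'⟩ := exists_thickening G
  let g := W'.subschemeι ≫ (W G).ι
  -- the orbit points
  let P : Set G.U := ⋃ i, {y | GrpdLib.Rel G (u i) y}
  have hP : P.Finite := Set.finite_iUnion fun i => GrpdLib.finite_rel G (u i)
  have hPsat : ∀ x y, GrpdLib.Rel G x y → x ∈ P → y ∈ P := fun x y h hx => by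
    obtain ⟨i, hi⟩ := Set.mem_iUnion.mp hx
    exact Set.mem_iUnion.mpr ⟨i, GrpdLib.Rel.trans G hi h⟩
  have hPu : ∀ i, u i ∈ P := fun i => Set.mem_iUnion.mpr ⟨i, GrpdLib.Rel.refl G (u i)⟩
  have hPW : ∀ x ∈ P, x ∈ W G := fun x hx => by
    obtain ⟨i, hi⟩ := Set.mem_iUnion.mp hx
    exact (GrpdLib.opens_preimage_eq_iff G _).mp (W_invariant G) _ _ hi
      (mem_W_of_generic G (u i) (hu i))
  -- an element of the ideal with locus inside the invariant open
  obtain ⟨h₁, h₁I, hD1W, hD1P⟩ :=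
    exists_basicOpen_subset j hI (W G : Set G.U) (W G).isOpen P hP hPW
  let R : CommRingCat.{u} := CommRingCat.of A
  let h₁' : R := h₁
  let O : (Spec R).Opens := PrimeSpectrum.basicOpen h₁'
  have hOaff : IsAffineOpen O := IsAffineOpen.Spec_basicOpen (R := CommRingCat.of A) h₁
  haveI : IsAffine O.toScheme := hOaff
  let D : W'.subscheme.Opens := (g ≫ j) ⁻¹ᵁ O
  let k : D.toScheme ⟶ O.toScheme := (g ≫ j) ∣_ O
  have hk : k ≫ O.ι = D.ι ≫ g ≫ j := morphismRestrict_ι _ _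
  haveI : IsImmersion (W'.subschemeι ≫ (W G).ι) := inferInstance
  haveI : IsImmersion g := ‹_›
  haveI : IsImmersion k := by
    haveI : IsImmersion (k ≫ O.ι) := by rw [hk]; infer_instance
    exact IsImmersion.of_comp k O.ι
  have hgsurj : ∀ x ∈ W G, ∃ z, g z = x := fun x hx => by
    have h1 : (⟨x, hx⟩ : (W G).toScheme) ∈ Set.range W'.subschemeι := by
      rw [Scheme.IdealSheafData.range_subschemeι, support_eq_top G hW']
      trivial
    obtain ⟨z, hz⟩ := h1
    exact ⟨z, (congrArg (W G).ι hz).trans rfl⟩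
  have hkrange : Set.range k = O.ι ⁻¹' Set.range j := by
    ext x
    constructor
    · rintro ⟨z, rfl⟩
      exact ⟨g z.1, (congrArg (fun m => m.base z) hk).symm⟩
    · rintro ⟨y, hy⟩
      have hyO : j y ∈ O := by rw [hy]; exact x.2
      obtain ⟨z, hz⟩ := hgsurj y (hD1W y hyO)
      refine ⟨⟨z, show j (g z) ∈ O by rw [hz]; exact hyO⟩, O.ι.isOpenEmbedding.injective ?_⟩
      rw [← Scheme.Hom.comp_apply, hk]
      exact (congrArg j hz).trans hy
  haveI : IsClosedImmersion k :=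
    IsClosedImmersion.of_isPreimmersion _ (hkrange ▸ isClosed_preimage_range j hcl h₁I)
  haveI : IsAffine D.toScheme := isAffine_of_isAffineHom k
  -- the norm
  obtain ⟨hfin, hflat, hlfp⟩ := isFinLocFree_s G hW'
  let b : pullback G.s (D.ι ≫ g) ⟶ D.toScheme := pullback.snd G.s (D.ι ≫ g)
  have hb : IsFinite b ∧ Flat b ∧ LocallyOfFinitePresentation b := by
    have hsq := IsPullback.of_right
      (h₁₂ := pullback.fst G.s g) (v₁₂ := pullback.snd G.s g) (v₁₁ := b) (h₂₁ := D.ι)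
      (h₁₁ := pullback.lift (pullback.fst G.s (D.ι ≫ g)) (b ≫ D.ι)
        (by rw [pullback.condition, Category.assoc]))
      (by rw [pullback.lift_fst]; exact IsPullback.of_hasPullback G.s (D.ι ≫ g))
      (pullback.lift_snd _ _ _) (IsPullback.of_hasPullback G.s g)
    exact ⟨MorphismProperty.of_isPullback hsq hfin, MorphismProperty.of_isPullback hsq hflat,
      MorphismProperty.of_isPullback hsq hlfp⟩
  obtain ⟨_, _, _⟩ := hb
  let F : Γ(pullback G.s (D.ι ≫ g), ⊤) := (pullback.fst G.s (D.ι ≫ g) ≫ G.t ≫ j).appTop.hom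
    ((Scheme.ΓSpecIso (CommRingCat.of A)).inv.hom h₁)
  obtain ⟨N, hN⟩ := GrpdLib.exists_norm_basicOpen b F
  have hNmem : ∀ z : D.toScheme, z ∈ D.toScheme.basicOpen N ↔
      ∀ y, GrpdLib.Rel G (g z.1) y → j y ∈ O := by
    intro z
    rw [hN]
    have hF : ∀ x, x ∈ (pullback G.s (D.ι ≫ g)).basicOpen F ↔
        j (G.t (pullback.fst G.s (D.ι ≫ g) x)) ∈ O := by
      intro x
      rw [show (pullback G.s (D.ι ≫ g)).basicOpen F =
        (pullback.fst G.s (D.ι ≫ g) ≫ G.t ≫ j) ⁻¹ᵁ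
          (Spec (CommRingCat.of A)).basicOpen ((Scheme.ΓSpecIso (CommRingCat.of A)).inv.hom h₁)
        from (Scheme.preimage_basicOpen_top _ _).symm, basicOpen_eq_of_affine]
      rfl
    constructor
    · rintro hall y ⟨r, hr, rfl⟩
      obtain ⟨x, hx₁, hx₂⟩ := Scheme.Pullback.exists_preimage_pullback (f := G.s) (g := D.ι ≫ g)
        r z (by rw [hr]; rfl)
      have := (hF x).mp (hall x hx₂)
      rwa [hx₁] at this
    · intro hall x hx
      refine (hF x).mpr (hall _ ⟨pullback.fst G.s (D.ι ≫ g) x, ?_, rfl⟩)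
      rw [← Scheme.Hom.comp_apply, pullback.condition, Scheme.Hom.comp_apply,
        show pullback.snd G.s (D.ι ≫ g) x = z from hx]
      rfl
  -- lift to a basic open of the spectrum
  obtain ⟨c, hc⟩ : ∃ c, k.appTop.hom c = N := (IsClosedImmersion.isAffine_surjective_of_isAffine k).2 N
  letI : Algebra R Γ(Spec R, O) :=
    StructureSheaf.openAlgebra R (op (PrimeSpectrum.basicOpen h₁'))
  haveI : IsLocalization.Away h₁' Γ(Spec R, O) := StructureSheaf.IsLocalization.to_basicOpen R h₁'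
  obtain ⟨⟨a, ⟨_, n, rfl⟩⟩, hac⟩ := IsLocalization.surj (R := R) (Submonoid.powers h₁')
    (S := Γ(Spec R, O)) (O.topIso.hom.hom c)
  have hca : ∀ w : O.toScheme, w ∈ O.toScheme.basicOpen c ↔ a ∉ (O.ι w).asIdeal := by
    intro w
    have h1 : w ∈ O.toScheme.basicOpen c ↔
        O.ι w ∈ (Spec (CommRingCat.of A)).basicOpen (O.topIso.hom.hom c) := by
      conv_rhs => rw [← Scheme.Opens.ι_image_basicOpen_topIso_inv]
      rw [show O.topIso.inv.hom (O.topIso.hom.hom c) = c by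
        rw [← CommRingCat.comp_apply, Iso.hom_inv_id]; rfl]
      refine ⟨fun h => ⟨w, h, rfl⟩, fun h => ?_⟩
      obtain ⟨w', hw', e⟩ := h
      exact O.ι.isOpenEmbedding.injective e ▸ hw'
    have h2 : (Spec (CommRingCat.of A)).basicOpen
        (algebraMap R Γ(Spec R, O) a) = O ⊓ PrimeSpectrum.basicOpen a := by
      rw [show algebraMap R Γ(Spec R, O) a =
        (Spec (CommRingCat.of A)).presheaf.map (homOfLE (le_top : O ≤ ⊤)).op
          ((Scheme.ΓSpecIso (CommRingCat.of A)).inv.hom a) from rfl, Scheme.basicOpen_res,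
        basicOpen_eq_of_affine]
    rw [h1, show (Spec (CommRingCat.of A)).basicOpen (O.topIso.hom.hom c) =
      (Spec (CommRingCat.of A)).basicOpen (algebraMap R Γ(Spec R, O) a) by
        have hunit : IsUnit (algebraMap R Γ(Spec R, O) (h₁' ^ n)) :=
          IsLocalization.map_units _ (⟨h₁' ^ n, n, rfl⟩ : Submonoid.powers h₁')
        rw [← hac, Scheme.basicOpen_mul, Scheme.basicOpen_of_isUnit _ hunit]
        exact (inf_eq_left.mpr (Scheme.basicOpen_le _ _)).symm, h2]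
    exact ⟨fun h => h.2, fun h => ⟨w.2, h⟩⟩
  -- the conclusion
  refine ⟨a * h₁, I.mul_mem_left a h₁I, isAffineOpen_preimage j hcl (I.mul_mem_left a h₁I), ?_⟩
  have hmem : ∀ x : G.U, x ∈ j ⁻¹ᵁ PrimeSpectrum.basicOpen (a * h₁) ↔
      ∀ y, GrpdLib.Rel G x y → j y ∈ O := by
    intro x
    have key : ∀ hxO : j x ∈ O, a ∉ (j x).asIdeal ↔ ∀ y, GrpdLib.Rel G x y → j y ∈ O := by
      intro hxO
      obtain ⟨z, hz⟩ := hgsurj x (hD1W x hxO)
      have hzD : z ∈ D := show j (g z) ∈ O by rw [hz]; exact hxO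
      have h1 := hNmem ⟨z, hzD⟩
      rw [← hc, ← Scheme.preimage_basicOpen_top] at h1
      have h3 : O.ι (k ⟨z, hzD⟩) = j x := by
        rw [← Scheme.Hom.comp_apply, hk]
        exact congrArg j hz
      rw [← hz]
      refine Iff.trans ?_ ((hca _).symm.trans h1)
      rw [h3, hz]
    show j x ∈ PrimeSpectrum.basicOpen (a * h₁) ↔ _
    rw [PrimeSpectrum.basicOpen_mul]
    exact ⟨fun h => (key h.2).mp h.1,
      fun h => ⟨(key (h x (GrpdLib.Rel.refl G x))).mpr h, h x (GrpdLib.Rel.refl G x)⟩⟩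
  refine ⟨fun i => (hmem _).mpr fun y hy => hD1P y (Set.mem_iUnion.mpr ⟨i, hy⟩), ?_⟩
  rw [GrpdLib.opens_preimage_eq_iff]
  intro x y hxy hx
  rw [hmem] at hx ⊢
  exact fun z hz => hx z (GrpdLib.Rel.trans G hxy hz)

end FittStratLib

end
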