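import Groth.Agent.FittLib.LocFree
import Groth.Agent.S4666
import Mathlib.AlgebraicGeometry.Morphisms.Flat
import Mathlib.AlgebraicGeometry.Morphisms.Finite

/-!
# Fitting ideal sheaves of a finite morphism

For a finite morphism `f : X ⟶ Y`, the ideal sheaves `fitt f r` on `Y` whose value on an affine
open `U` is the `r`-th Fitting ideal of `Γ(X, f⁻¹U)` as a module over `Γ(Y, U)`.
-/

set_option autoImplicit false
universe u
open CategoryTheory CategoryTheory.Limits AlgebraicGeometry TopologicalSpace Opposite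

noncomputable section

namespace FittStratLib

/-- The Fitting ideals of the target of a ring map as a module over the source. -/
def RFitt {A B : CommRingCat.{u}} (φ : A ⟶ B) (r : ℕ) : Ideal A :=
  letI := φ.hom.toAlgebra
  Fitt.ideal A B r

theorem RFitt_isPushout {A B A' B' : CommRingCat.{u}} {φ : A ⟶ B} {g : A ⟶ A'} {g' : B ⟶ B'}
    {φ' : A' ⟶ B'} (h : IsPushout g φ φ' g') (hφ : φ.hom.Finite) (r : ℕ) :
    RFitt φ' r = (RFitt φ r).map g.hom := by
  algebraize [φ.hom, g.hom, φ'.hom, g'.hom, g'.hom.comp φ.hom]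
  have : IsScalarTower A A' B' := .of_algebraMap_eq' congr($(h.1.1).hom).symm
  have hp : Algebra.IsPushout A A' B B' := CommRingCat.isPushout_iff_isPushout.mp h
  exact FittLib.ideal_isBaseChange hp.out r

theorem RFitt_mono {A B : CommRingCat.{u}} {φ : A ⟶ B} (hφ : φ.hom.Finite) {k l : ℕ} (h : k ≤ l) :
    RFitt φ k ≤ RFitt φ l := by
  algebraize [φ.hom]
  exact FittLib.ideal_monotone (R := A) (M := B) h

theorem RFitt_zero_of_injective {A B : CommRingCat.{u}} {φ : A ⟶ B} (hφ : φ.hom.Finite)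
    (hinj : Function.Injective φ.hom) : RFitt φ 0 = ⊥ := by
  algebraize [φ.hom]
  refine eq_bot_iff.mpr fun a ha => hinj ?_
  have h1 := Module.mem_annihilator.mp (FittLib.ideal_le_annihilator (R := A) (M := B) ha) (1 : B)
  rw [map_zero]
  exact (mul_one (φ.hom a)).symm.trans h1

theorem exists_RFitt_top {A B : CommRingCat.{u}} {φ : A ⟶ B} (hφ : φ.hom.Finite) :
    ∃ n, RFitt φ n = ⊤ := by
  algebraize [φ.hom]
  obtain ⟨n, x, hx⟩ := FittLib.exists_gen (R := A) B
  exact ⟨n, FittLib.ideal_top_of_gen x hx le_rfl⟩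

theorem RFitt_fg {A B : CommRingCat.{u}} {φ : A ⟶ B} (hφ : φ.hom.Finite)
    (hfp : φ.hom.FinitePresentation) (r : ℕ) : (RFitt φ r).FG := by
  algebraize [φ.hom]
  haveI := Module.FinitePresentation.of_finite_of_finitePresentation A B
  exact FittLib.ideal_fg r

variable {X Y : Scheme.{u}} (f : X ⟶ Y)

/-- Fitting ideals over an open of the target. -/
def fittU (r : ℕ) (U : Y.Opens) : Ideal Γ(Y, U) := RFitt (f.app U) r

/-- Fitting ideals commute with base change. -/
theorem fittU_isPullback [IsFinite f] {P T : Scheme.{u}} {fst : P ⟶ X} {snd : P ⟶ T} {g : T ⟶ Y}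
    (h : IsPullback fst snd f g) {U : Y.Opens} (hU : IsAffineOpen U) {U' : T.Opens}
    (hU' : IsAffineOpen U') (e : U' ≤ g ⁻¹ᵁ U) (r : ℕ) :
    fittU snd r U' = (fittU f r U).map (g.appLE U U' e).hom := by
  have hUY : snd ⁻¹ᵁ U' = fst ⁻¹ᵁ (f ⁻¹ᵁ U) ⊓ snd ⁻¹ᵁ U' := by
    refine (inf_eq_right.mpr ?_).symm
    rw [← Scheme.Hom.comp_preimage, h.w, Scheme.Hom.comp_preimage]
    exact fun x hx => e hx
  have hiso := isIso_pushoutSection_of_isAffineOpen h e
    (UX := f ⁻¹ᵁ U) le_rfl hUY hU hU' (hU.preimage f)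
  rw [isIso_pushoutSection_iff] at hiso
  unfold fittU
  rw [Scheme.Hom.app_eq_appLE, Scheme.Hom.app_eq_appLE]
  exact RFitt_isPushout hiso.flip (by rw [← Scheme.Hom.app_eq_appLE]; exact f.finite_app U hU) r

/-- Fitting ideals restrict to smaller affine opens. -/
theorem fittU_res [IsFinite f] {U V : Y.Opens} (hU : IsAffineOpen U) (hV : IsAffineOpen V)
    (e : V ≤ U) (r : ℕ) :
    fittU f r V = (fittU f r U).map (Y.presheaf.map (homOfLE e).op).hom := by
  rw [fittU_isPullback f (IsPullback.of_horiz_isIso ⟨show 𝟙 X ≫ f = f ≫ 𝟙 Y by simp⟩) hU hV e r]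
  congr 1

/-- The Fitting ideal sheaves of a finite morphism. -/
def fitt [IsFinite f] (r : ℕ) : Y.IdealSheafData where
  ideal U := fittU f r U.1
  map_ideal_basicOpen U a :=
    (fittU_res f U.2 (U.2.basicOpen a) (Y.basicOpen_le a) r).symm

variable [IsFinite f]

theorem fitt_ideal (r : ℕ) (U : Y.affineOpens) : (fitt f r).ideal U = RFitt (f.app U.1) r := rfl

/-- Fitting ideal sheaves commute with base change. -/
theorem fitt_comap {P T : Scheme.{u}} {fst : P ⟶ X} {snd : P ⟶ T} [IsFinite snd] {g : T ⟶ Y}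
    (h : IsPullback fst snd f g) (r : ℕ) : (fitt f r).comap g = fitt snd r := by
  have hch : ∀ x : T, ∃ (W : T.affineOpens) (U : Y.affineOpens), x ∈ W.1 ∧ W.1 ≤ g ⁻¹ᵁ U.1 := by
    intro x
    obtain ⟨U, hU, hxU, -⟩ := exists_isAffineOpen_mem_and_subset (X := Y) (x := g x) (U := ⊤) trivial
    obtain ⟨W, hW, hxW, hle⟩ := exists_isAffineOpen_mem_and_subset (X := T) (x := x) (U := g ⁻¹ᵁ U) hxU
    exact ⟨⟨W, hW⟩, ⟨U, hU⟩, hxW, hle⟩
  choose W U hxW e using hch
  refine Scheme.IdealSheafData.ext_of_iSup_eq_top W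
    (top_le_iff.mp fun x _ => Opens.mem_iSup.mpr ⟨x, hxW x⟩) fun x => ?_
  rw [Groth.Agent.S4666.ideal_comap_eq _ g (U x) (W x) (e x)]
  exact (fittU_isPullback f h (U x).2 (W x).2 (e x) r).symm

theorem fitt_mono : Monotone (fitt f) := fun _ _ h U => RFitt_mono (f.finite_app U.1 U.2) h

/-- A finite morphism with a section has vanishing zeroth Fitting ideal. -/
theorem fitt_zero (e : Y ⟶ X) (he : e ≫ f = 𝟙 Y) : fitt f 0 = ⊥ := by
  refine Scheme.IdealSheafData.ext (funext fun U => ?_)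
  rw [Scheme.IdealSheafData.ideal_bot]
  refine RFitt_zero_of_injective (f.finite_app U.1 U.2) ?_
  have hle : U.1 ≤ e ⁻¹ᵁ (f ⁻¹ᵁ U.1) := by rw [← Scheme.Hom.comp_preimage, he]; exact le_rfl
  have hcomp : f.app U.1 ≫ e.appLE _ U.1 hle = 𝟙 _ := by
    rw [← Scheme.Hom.comp_appLE e f U.1 U.1 (by rw [he]; exact le_rfl)]
    have key : ∀ (g : Y ⟶ Y) (h : U.1 ≤ g ⁻¹ᵁ U.1), g = 𝟙 Y → g.appLE U.1 U.1 h = 𝟙 _ := by
      rintro g h rfl
      show 𝟙 _ ≫ Y.presheaf.map (𝟙 (op U.1)) = 𝟙 _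
      rw [Y.presheaf.map_id, Category.id_comp]
    exact key _ _ he
  intro a b hab
  have := congrArg (e.appLE _ U.1 hle).hom hab
  simpa [← CommRingCat.comp_apply, hcomp] using this

/-- The closed sets of the Fitting ideal sheaves have empty intersection. -/
theorem exists_not_mem_support (y : Y) : ∃ r, y ∉ (fitt f r).support := by
  obtain ⟨U, hU, hy, -⟩ := exists_isAffineOpen_mem_and_subset (X := Y) (x := y) (U := ⊤) trivial
  obtain ⟨n, hn⟩ := exists_RFitt_top (f.finite_app U hU)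
  refine ⟨n, fun h => ?_⟩
  rw [Scheme.IdealSheafData.mem_support_iff_of_mem (U := ⟨U, hU⟩) hy, fitt_ideal] at h
  have h1 := (Scheme.mem_zeroLocus_iff _ _ _).mp h 1 (by rw [hn]; exact trivial)
  rw [Scheme.basicOpen_of_isUnit _ isUnit_one] at h1
  exact h1 hy

theorem fitt_fg [LocallyOfFinitePresentation f] (r : ℕ) (U : Y.affineOpens) :
    ((fitt f r).ideal U).FG := by
  refine RFitt_fg (f.finite_app U.1 U.2) ?_ r
  rw [Scheme.Hom.app_eq_appLE]
  exact HasRingHomProperty.appLE @LocallyOfFinitePresentation f ‹_› U ⟨_, U.2.preimage f⟩ le_rfl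

end FittStratLib

end
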