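import Groth.Agent.FittStratLib.DimOne

/-!
# Invariant affine opens around orbits of dimension at most one, separated Noetherian case
-/

set_option autoImplicit false
universe u
open CategoryTheory CategoryTheory.Limits AlgebraicGeometry TopologicalSpace Opposite

noncomputable section

namespace FittStratLib

theorem ringKrullDim_stalk_of_openImmersion {X Y : Scheme.{u}} (f : X ⟶ Y) [IsOpenImmersion f] (x : X) :
    ringKrullDim (X.presheaf.stalk x) = ringKrullDim (Y.presheaf.stalk (f x)) :=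
  (ringKrullDim_eq_of_ringEquiv (asIso (f.stalkMap x)).commRingCatIsoToRingEquiv).symm

/-- Finitely many points of codimension at most one of a separated locally Noetherian scheme lie in an
affine open. -/
theorem exists_affine_of_dim_le_one {X : Scheme.{u}} [IsLocallyNoetherian X] [X.IsSeparated] {T : Set X}
    (hT : T.Finite) (hd : ∀ t ∈ T, ringKrullDim (X.presheaf.stalk t) ≤ 1) :
    ∃ U : X.Opens, IsAffineOpen U ∧ T ⊆ U := by
  classical
  have hch : ∀ x : X, ∃ U : X.Opens, IsAffineOpen U ∧ x ∈ U := fun x => by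
    obtain ⟨U, hU, hxU, -⟩ := exists_isAffineOpen_mem_and_subset (X := X) (x := x) (U := ⊤) trivial
    exact ⟨U, hU, hxU⟩
  choose V hV hxV using hch
  let N : X.Opens := ⨆ t ∈ T, V t
  have hN : IsCompact (N : Set X) := by
    have : (N : Set X) = ⋃ t ∈ T, (V t : Set X) := by simp [N]
    rw [this]
    exact hT.isCompact_biUnion fun t _ => (hV t).isCompact
  haveI : CompactSpace N.toScheme := isCompact_iff_compactSpace.mp hN
  haveI : IsLocallyNoetherian N.toScheme := LocallyOfFiniteType.isLocallyNoetherian N.ι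
  haveI : IsNoetherian N.toScheme := ⟨⟩
  haveI : N.toScheme.IsSeparated := ⟨by
    rw [Subsingleton.elim (terminal.from N.toScheme) (N.ι ≫ terminal.from X)]
    infer_instance⟩
  have hTN : T ⊆ (N : Set X) := fun t ht =>
    Opens.mem_iSup.mpr ⟨t, Opens.mem_iSup.mpr ⟨ht, hxV t⟩⟩
  obtain ⟨U, hU, hTU⟩ := FinCodimLib.exists_affine_of_finite (X := N.toScheme) (N.ι ⁻¹' T)
    (hT.preimage N.ι.isOpenEmbedding.injective.injOn) fun z hz => by
      rw [ringKrullDim_stalk_of_openImmersion N.ι z]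
      exact hd _ hz
  exact ⟨N.ι ''ᵁ U, hU.image_of_isOpenImmersion N.ι, fun t ht => ⟨⟨t, hTN ht⟩, hTU ht, rfl⟩⟩

variable {S : Scheme.{u}} (G : Grpd.GroupoidScheme S) [IsFinite G.s] [IsFinite G.t]

theorem exists_invariant_affine_separated [IsLocallyNoetherian G.U] [G.U.IsSeparated] (u : G.U)
    (hdim : ∀ r : G.R, G.s r = u → ringKrullDim (G.U.presheaf.stalk (G.t r)) ≤ 1) :
    ∃ W : G.U.Opens, IsAffineOpen W ∧ u ∈ W ∧ G.s ⁻¹ᵁ W = G.t ⁻¹ᵁ W := by
  obtain ⟨U₀, hU₀, hTU⟩ := exists_affine_of_dim_le_one (GrpdLib.finite_rel G u)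
    (fun y ⟨r, hr, hr'⟩ => hr' ▸ hdim r hr)
  let O := inner G U₀
  have hO := inner_invariant G U₀
  have huO : u ∈ O := (mem_inner G).mpr fun y hy => hTU hy
  have hle : O ≤ U₀ := fun x hx => (mem_inner G).mp hx x (GrpdLib.Rel.refl G x)
  let G' := GrpdLib.res G O hO
  haveI : IsFinite G'.t := isFinite_res_t G O hO
  haveI : IsAffine U₀.toScheme := hU₀
  haveI : IsLocallyNoetherian U₀.toScheme := LocallyOfFiniteType.isLocallyNoetherian U₀.ι
  haveI : IsNoetherian U₀.toScheme := ⟨⟩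
  haveI : IsLocallyNoetherian G'.U := LocallyOfFiniteType.isLocallyNoetherian O.ι
  haveI : CompactSpace G'.U :=
    isCompact_iff_compactSpace.mp (by
      have h1 : IsCompact ((U₀.ι ⁻¹ᵁ O : U₀.toScheme.Opens) : Set U₀.toScheme) :=
        NoetherianSpace.isCompact _
      have h2 := h1.image U₀.ι.continuous
      rwa [show U₀.ι '' ((U₀.ι ⁻¹ᵁ O : U₀.toScheme.Opens) : Set U₀.toScheme) = (O : Set G.U) from
        Set.image_preimage_eq_of_subset (s := (O : Set G.U)) (by rw [Scheme.Opens.range_ι]; exact hle)] at h2)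
  haveI : IsNoetherian G'.U := ⟨⟩
  let j : O.toScheme ⟶ Spec (CommRingCat.of Γ(U₀.toScheme, ⊤)) :=
    G.U.homOfLE hle ≫ U₀.toScheme.isoSpec.hom
  obtain ⟨W, hW, huW, hWinv⟩ := exists_invariant_affine_dimOne G' j ⟨u, huO⟩ fun y hy => by
    rw [ringKrullDim_stalk_of_openImmersion O.ι y]
    obtain ⟨r, hr, hr'⟩ := (GrpdLib.rel_res_iff G O hO ⟨u, huO⟩ y).mp hy
    exact hr' ▸ hdim r hr
  refine ⟨O.ι ''ᵁ W, hW.image_of_isOpenImmersion O.ι, ⟨⟨u, huO⟩, huW, rfl⟩, ?_⟩
  rw [GrpdLib.opens_preimage_eq_iff]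
  rintro _ y hxy ⟨x, hx, rfl⟩
  have hyO : y ∈ O := (GrpdLib.opens_preimage_eq_iff G O).mp hO _ y hxy x.2
  exact ⟨⟨y, hyO⟩, (GrpdLib.opens_preimage_eq_iff G' _).mp hWinv _ _
    ((GrpdLib.rel_res_iff G O hO x ⟨y, hyO⟩).mpr hxy) hx, rfl⟩

end FittStratLib

end
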