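import Groth.Agent.S4666
import Mathlib.AlgebraicGeometry.IdealSheaf.Functorial
import Mathlib.AlgebraicGeometry.Morphisms.ClosedImmersion

/-!
# Ideal sheaves on a disjoint union of opens
-/

set_option autoImplicit false
universe u
open CategoryTheory CategoryTheory.Limits AlgebraicGeometry TopologicalSpace Opposite

noncomputable section

namespace FittStratLib

variable {X Y Z : Scheme.{u}}

/-- An ideal sheaf is determined by its restrictions to an open cover. -/
theorem ext_of_comap_opens {ι : Type*} (O : ι → X.Opens) (hO : ∀ x : X, ∃ i, x ∈ O i)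
    {I J : X.IdealSheafData} (h : ∀ i, I.comap (O i).ι = J.comap (O i).ι) : I = J := by
  have hch : ∀ x : X, ∃ (V : X.affineOpens) (i : ι), x ∈ V.1 ∧ V.1 ≤ O i := fun x => by
    obtain ⟨i, hi⟩ := hO x
    obtain ⟨V, hV, hxV, hle⟩ := exists_isAffineOpen_mem_and_subset hi
    exact ⟨⟨V, hV⟩, i, hxV, hle⟩
  choose V i hxV hle using hch
  refine Scheme.IdealSheafData.ext_of_iSup_eq_top V
    (top_le_iff.mp fun x _ => Opens.mem_iSup.mpr ⟨x, hxV x⟩) fun x => ?_
  have hW : IsAffineOpen ((O (i x)).ι ⁻¹ᵁ (V x).1) :=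
    (V x).2.preimage_of_isOpenImmersion _ (by rw [Scheme.Opens.opensRange_ι]; exact hle x)
  have key : ∀ K : X.IdealSheafData, (K.comap (O (i x)).ι).ideal ⟨_, hW⟩ =
      (K.ideal (V x)).map ((O (i x)).ι.appLE (V x).1 _ le_rfl).hom :=
    fun K => Groth.Agent.S4666.ideal_comap_eq K _ (V x) ⟨_, hW⟩ le_rfl
  have hbij : Function.Bijective ((O (i x)).ι.appLE (V x).1 _ le_rfl).hom := by
    rw [← Scheme.Hom.app_eq_appLE]
    have : IsIso ((O (i x)).ι.app (V x).1) :=
      Scheme.Hom.isIso_app _ _ (by rw [Scheme.Opens.opensRange_ι]; exact hle x)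
    exact ConcreteCategory.bijective_of_isIso _
  have h2 := congrArg (Ideal.comap ((O (i x)).ι.appLE (V x).1 _ le_rfl).hom)
    ((key I).symm.trans ((congrArg (fun K => K.ideal ⟨_, hW⟩) (h (i x))).trans (key J)))
  rwa [Ideal.comap_map_of_bijective _ hbij, Ideal.comap_map_of_bijective _ hbij] at h2

theorem eq_bot_of_comap_opens {ι : Type*} (O : ι → X.Opens) (hO : ∀ x : X, ∃ i, x ∈ O i)
    {I : X.IdealSheafData} (h : ∀ i, I.comap (O i).ι = ⊥) : I = ⊥ :=
  ext_of_comap_opens O hO fun i => by rw [h i, Scheme.IdealSheafData.comap_bot]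

/-- An ideal sheaf restricts to zero on its own closed subscheme. -/
theorem comap_subschemeι (I : X.IdealSheafData) : I.comap I.subschemeι = ⊥ := by
  rw [eq_bot_iff, ← Scheme.IdealSheafData.le_map_iff_comap_le, Scheme.IdealSheafData.map_bot,
    Scheme.IdealSheafData.ker_subschemeι]

/-- A morphism factors through a closed subscheme if the ideal pulls back to zero. -/
theorem exists_lift_of_comap_eq_bot (I : Y.IdealSheafData) (g : X ⟶ Y) (h : I.comap g = ⊥) :
    ∃ q : X ⟶ I.subscheme, q ≫ I.subschemeι = g := by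
  refine ⟨IsClosedImmersion.lift I.subschemeι g ?_, IsClosedImmersion.lift_fac _ _ _⟩
  rw [Scheme.IdealSheafData.ker_subschemeι, ← Scheme.IdealSheafData.map_bot,
    Scheme.IdealSheafData.le_map_iff_comap_le, h]

theorem comap_eq_bot_of_lift (I : Y.IdealSheafData) (g : X ⟶ Y) (q : X ⟶ I.subscheme)
    (hq : q ≫ I.subschemeι = g) : I.comap g = ⊥ := by
  rw [← hq, Scheme.IdealSheafData.comap_comp, comap_subschemeι, Scheme.IdealSheafData.comap_bot]

theorem comap_inf_openImmersion (I J : Y.IdealSheafData) (j : X ⟶ Y) [IsOpenImmersion j] :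
    (I ⊓ J).comap j = I.comap j ⊓ J.comap j := by
  refine Scheme.IdealSheafData.ext (funext fun U => ?_)
  simp [Scheme.IdealSheafData.ideal_comap_of_isOpenImmersion]
  rfl

/-- Gluing ideal sheaves along a cover by pairwise disjoint opens. -/
theorem exists_glue_disjoint {ι : Type*} (O : ι → X.Opens) (hO : ∀ x : X, ∃ i, x ∈ O i)
    (hd : ∀ i j, i ≠ j → Disjoint (O i) (O j)) (J : ∀ i, (O i).toScheme.IdealSheafData) :
    ∃ I : X.IdealSheafData, ∀ i, I.comap (O i).ι = J i := by
  have hclosed : ∀ i, IsClosed (O i : Set X) := fun i => by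
    rw [← isOpen_compl_iff, isOpen_iff_forall_mem_open]
    intro x hx
    obtain ⟨j, hj⟩ := hO x
    refine ⟨O j, fun y hy hyi => ?_, (O j).isOpen, hj⟩
    have hij : i ≠ j := fun h => hx (h ▸ hj)
    exact Set.disjoint_left.mp (Opens.coe_disjoint.mpr (hd i j hij)) hyi hy
  have hci : ∀ i, IsClosedImmersion (O i).ι := fun i =>
    IsClosedImmersion.of_isPreimmersion _ (by rw [Scheme.Opens.range_ι]; exact hclosed i)
  refine ⟨⨅ i, (J i).map (O i).ι, fun i => le_antisymm ?_ ?_⟩
  · exact (Scheme.IdealSheafData.comap_mono _ (iInf_le _ i)).trans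
      (Scheme.IdealSheafData.comap_map_le _ _)
  · let C : X.Opens := ⟨(O i : Set X)ᶜ, (hclosed i).isOpen_compl⟩
    haveI : IsClosedImmersion C.ι :=
      IsClosedImmersion.of_isPreimmersion _ (by
        rw [Scheme.Opens.range_ι]; exact (O i).isOpen.isClosed_compl)
    haveI := hci i
    -- comap of the pushforward
    have hmap : ((J i).map (O i).ι).comap (O i).ι = J i := by
      rw [Scheme.IdealSheafData.map, ← Scheme.IdealSheafData.ker_fst_of_isClosedImmersion]
      have hsq : IsPullback (J i).subschemeι (𝟙 _) (O i).ι ((J i).subschemeι ≫ (O i).ι) :=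
        IsPullback.of_vert_isIso_mono ⟨by simp⟩
      rw [← hsq.isoPullback_inv_fst, Scheme.Hom.ker_comp_of_isIso,
        Scheme.IdealSheafData.ker_subschemeι]
    have hC : C.ι.ker.comap (O i).ι = ⊤ := by
      rw [← Scheme.IdealSheafData.support_eq_bot_iff]
      refine eq_bot_iff.mpr fun x hx => ?_
      rw [Scheme.IdealSheafData.support_comap] at hx
      have hx' : (O i).ι x ∈ (C.ι.ker.support : Set X) := hx
      rw [Scheme.Hom.support_ker] at hx'
      rw [Scheme.Opens.range_ι] at hx'
      have hcl : closure (C : Set X) = C := (O i).isOpen.isClosed_compl.closure_eq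
      rw [hcl] at hx'
      exact absurd x.2 hx'
    have hle : (J i).map (O i).ι ⊓ C.ι.ker ≤ ⨅ j, (J j).map (O j).ι := by
      refine le_iInf fun j => ?_
      by_cases hij : j = i
      · subst hij; exact inf_le_left
      · refine le_trans inf_le_right ?_
        have hsub : (O j).ι = X.homOfLE (show O j ≤ C from fun y hy hyi =>
            Set.disjoint_left.mp (Opens.coe_disjoint.mpr (hd j i hij)) hy hyi) ≫ C.ι :=
          (X.homOfLE_ι _).symm
        rw [Scheme.IdealSheafData.map, hsub, ← Category.assoc]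
        exact Scheme.Hom.le_ker_comp _ _
    refine le_trans ?_ (Scheme.IdealSheafData.comap_mono _ hle)
    show J i ≤ Scheme.IdealSheafData.comap (_ ⊓ _) _
    rw [comap_inf_openImmersion, hmap, hC, inf_top_eq]

end FittStratLib

end
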