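import Groth.Agent.FittStratLib.Deg
import Groth.Agent.FittStratLib.Glue
import Groth.Agent.GrpdLib.InvOpen
import Groth.Prelude.Def_Grpd

/-!
# The Fitting stratification of a finite groupoid
-/

set_option autoImplicit false
universe u
open CategoryTheory CategoryTheory.Limits AlgebraicGeometry TopologicalSpace Opposite

noncomputable section

namespace FittStratLib

variable {S : Scheme.{u}} (G : Grpd.GroupoidScheme S)

/-- The Fitting ideal sheaves of the source are invariant. -/
theorem fitt_comap_s_eq_t [IsFinite G.s] (r : ℕ) :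
    (fitt G.s r).comap G.s = (fitt G.s r).comap G.t := by
  have hq := IsPullback.of_hasPullback G.s G.s
  have hd := GrpdLib.isPullback_div G (pullback.fst G.s G.s) (pullback.snd G.s G.s) hq
  rw [fitt_comap G.s hq.flip r, fitt_comap G.s hd.flip r]

/-- Invariance of a monomorphism from a one sided factorisation. -/
theorem exists_iso_of_factor {Z : Scheme.{u}} (ι : Z ⟶ G.U) [Mono ι] (q : pullback G.s ι ⟶ Z)
    (hq : q ≫ ι = pullback.fst G.s ι ≫ G.t) :
    ∃ φ : pullback G.s ι ≅ pullback G.t ι, φ.hom ≫ pullback.fst G.t ι = pullback.fst G.s ι := by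
  let m : pullback G.t ι ⟶ pullback G.s ι :=
    pullback.lift (pullback.fst G.t ι ≫ G.i) (pullback.snd G.t ι)
      (by rw [Category.assoc, G.i_s, pullback.condition])
  have hm : pullback.fst G.t ι ≫ G.s = (m ≫ q) ≫ ι := by
    rw [Category.assoc, hq, ← Category.assoc, pullback.lift_fst, Category.assoc, G.i_t]
  refine ⟨⟨pullback.lift (pullback.fst G.s ι) q hq.symm,
    pullback.lift (pullback.fst G.t ι) (m ≫ q) hm, ?_, ?_⟩, pullback.lift_fst _ _ _⟩
  · rw [← cancel_mono (pullback.fst G.s ι), Category.assoc, pullback.lift_fst, pullback.lift_fst,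
      Category.id_comp]
  · rw [← cancel_mono (pullback.fst G.t ι), Category.assoc, pullback.lift_fst, pullback.lift_fst,
      Category.id_comp]

theorem comap_eq_top_of_forall {X Y : Scheme.{u}} (I : Y.IdealSheafData) (g : X ⟶ Y)
    (h : ∀ x, g x ∉ I.support) : I.comap g = ⊤ := by
  rw [← Scheme.IdealSheafData.support_eq_bot_iff]
  refine eq_bot_iff.mpr fun x hx => ?_
  rw [Scheme.IdealSheafData.support_comap] at hx
  exact absurd hx (h x)

/-- Over a base where the Fitting ideals are trivial the source has constant degree. -/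
theorem deg_pullback [IsFinite G.s] {T : Scheme.{u}} (g : T ⟶ G.U) (r : ℕ)
    (h₁ : (fitt G.s r).comap g = ⊥) (h₂ : ∀ x, g x ∉ (fitt G.s (r + 1)).support) :
    Mor2.IsFinLocFreeOfDeg (r + 1) (pullback.snd G.s g) := by
  refine isFinLocFreeOfDeg_of_fitt _ (r + 1) (fun k hk => ?_) ?_
  · rw [← fitt_comap G.s (IsPullback.of_hasPullback G.s g) k, eq_bot_iff, ← h₁]
    exact Scheme.IdealSheafData.comap_mono g (fitt_mono G.s (Nat.lt_succ_iff.mp hk))
  · rw [← fitt_comap G.s (IsPullback.of_hasPullback G.s g) (r + 1)]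
    exact comap_eq_top_of_forall _ g h₂

theorem fitt_s_zero [IsFinite G.s] : fitt G.s 0 = ⊥ := fitt_zero G.s G.e G.e_s

theorem iInter_support [IsFinite G.s] :
    (⋂ r, ((fitt G.s r).support : Set G.U)) = ∅ := by
  refine Set.eq_empty_iff_forall_notMem.mpr fun x hx => ?_
  obtain ⟨r, hr⟩ := exists_not_mem_support G.s x
  exact hr (Set.mem_iInter.mp hx r)

end FittStratLib

end
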