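import Groth.Agent.FittStratLib.Invariant
import Groth.Agent.FittStratLib.Generic

/-!
# The invariant open with a thickened finite locally free restriction
-/

set_option autoImplicit false
universe u
open CategoryTheory CategoryTheory.Limits AlgebraicGeometry TopologicalSpace Opposite

noncomputable section

namespace FittStratLib

variable {S : Scheme.{u}} (G : Grpd.GroupoidScheme S) [IsFinite G.s] [IsFinite G.t]

/-- The closed sets of the stratification. -/
def F (r : ℕ) : Set G.U := (fitt G.s r).support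

omit [IsFinite G.t] in
theorem isClosed_F (r : ℕ) : IsClosed (F G r) := (fitt G.s r).support.isClosed

omit [IsFinite G.t] in
theorem F_saturated (r : ℕ) {x y : G.U} (h : GrpdLib.Rel G x y) (hx : x ∈ F G r) : y ∈ F G r := by
  refine (GrpdLib.preimage_eq_iff G (F G r)).mp ?_ x y h hx
  have := congrArg (fun I : G.R.IdealSheafData => (I.support : Set G.R)) (fitt_comap_s_eq_t G r)
  simp only [Scheme.IdealSheafData.support_comap, Closeds.coe_preimage] at this
  exact this

omit [IsFinite G.t] in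
theorem F_zero : F G 0 = Set.univ := by
  rw [F, fitt_s_zero, Scheme.IdealSheafData.support_bot]
  rfl

omit [IsFinite G.t] in
theorem F_anti {k l : ℕ} (h : k ≤ l) : F G l ⊆ F G k :=
  Scheme.IdealSheafData.support_antitone (fitt_mono G.s h)

omit [IsFinite G.t] in
theorem exists_stratum (x : G.U) : ∃ r, x ∈ F G r ∧ x ∉ F G (r + 1) := by
  classical
  have hex : ∃ r, x ∉ F G r := exists_not_mem_support G.s x
  have h0 : Nat.find hex ≠ 0 := fun h => by
    have := Nat.find_spec hex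
    rw [h, F_zero] at this
    exact this trivial
  refine ⟨Nat.find hex - 1, not_not.mp (Nat.find_min hex (by omega)), ?_⟩
  rw [Nat.sub_add_cancel (Nat.one_le_iff_ne_zero.mpr h0)]
  exact Nat.find_spec hex

/-- The interior of a stratum. -/
def A (r : ℕ) : G.U.Opens :=
  ⟨interior (F G r) ∩ (F G (r + 1))ᶜ, isOpen_interior.inter (isClosed_F G (r + 1)).isOpen_compl⟩

/-- The points whose orbit is in the interior of a stratum. -/
def Wr (r : ℕ) : G.U.Opens :=
  ⟨(G.t '' (G.s ⁻¹' (A G r : Set G.U)ᶜ))ᶜ,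
    (G.t.isClosedMap _ ((A G r).isOpen.isClosed_compl.preimage G.s.continuous)).isOpen_compl⟩

theorem mem_Wr {r : ℕ} {x : G.U} : x ∈ Wr G r ↔ ∀ y, GrpdLib.Rel G x y → y ∈ A G r := by
  show x ∉ G.t '' (G.s ⁻¹' (A G r : Set G.U)ᶜ) ↔ _
  constructor
  · intro h y hy
    obtain ⟨q, hq, hq'⟩ := GrpdLib.Rel.symm G hy
    by_contra hyA
    exact h ⟨q, by show G.s q ∉ (A G r : Set G.U); rw [hq]; exact hyA, hq'⟩
  · rintro h ⟨q, hq, rfl⟩
    exact hq (h _ (GrpdLib.Rel.symm G ⟨q, rfl, rfl⟩))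

theorem Wr_saturated {r : ℕ} {x y : G.U} (h : GrpdLib.Rel G x y) (hx : x ∈ Wr G r) : y ∈ Wr G r :=
  (mem_Wr G).mpr fun z hz => (mem_Wr G).mp hx z (GrpdLib.Rel.trans G h hz)

theorem Wr_le_F {r : ℕ} {x : G.U} (hx : x ∈ Wr G r) : x ∈ F G r ∧ x ∉ F G (r + 1) :=
  have h := (mem_Wr G).mp hx x (GrpdLib.Rel.refl G x)
  ⟨interior_subset h.1, h.2⟩

theorem Wr_disjoint {r r' : ℕ} (h : r ≠ r') : Disjoint (Wr G r) (Wr G r') := by
  rw [← Opens.coe_disjoint, Set.disjoint_left]
  intro x hx hx'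
  obtain ⟨h1, h2⟩ := Wr_le_F G hx
  obtain ⟨h3, h4⟩ := Wr_le_F G hx'
  rcases Nat.lt_or_ge r r' with hlt | hge
  · exact h2 (F_anti G hlt h3)
  · exact h4 (F_anti G (show r' + 1 ≤ r by omega) h1)

/-- The invariant open. -/
def W : G.U.Opens := ⨆ r, Wr G r

theorem mem_W {x : G.U} : x ∈ W G ↔ ∃ r, x ∈ Wr G r := Opens.mem_iSup

theorem W_invariant : G.s ⁻¹ᵁ W G = G.t ⁻¹ᵁ W G := by
  rw [GrpdLib.opens_preimage_eq_iff]
  intro x y h hx
  obtain ⟨r, hr⟩ := (mem_W G).mp hx
  exact (mem_W G).mpr ⟨r, Wr_saturated G h hr⟩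

/-- The invariant open is dense up to orbits. -/
theorem exists_rel_closure (u : G.U) :
    ∃ r : G.R, G.t r = u ∧ G.s r ∈ closure (W G : Set G.U) := by
  classical
  let V : Set G.U := (G.t '' (G.s ⁻¹' closure (W G : Set G.U)))ᶜ
  suffices hV : V = ∅ by
    obtain ⟨r, hr, hr'⟩ : u ∈ G.t '' (G.s ⁻¹' closure (W G : Set G.U)) := by
      by_contra h
      have h' : u ∈ V := h
      rw [hV] at h'
      exact h'
    exact ⟨r, hr', hr⟩
  have hVo : IsOpen V := (G.t.isClosedMap _ (isClosed_closure.preimage G.s.continuous)).isOpen_compl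
  have hVmem : ∀ x, x ∈ V ↔ ∀ y, GrpdLib.Rel G x y → y ∉ closure (W G : Set G.U) := fun x => by
    constructor
    · intro h y hy hyW
      obtain ⟨q, hq, hq'⟩ := GrpdLib.Rel.symm G hy
      exact h ⟨q, by show G.s q ∈ closure (W G : Set G.U); rw [hq]; exact hyW, hq'⟩
    · rintro h ⟨q, hq, rfl⟩
      exact h _ (GrpdLib.Rel.symm G ⟨q, rfl, rfl⟩) hq
  have hVsat : ∀ x y, GrpdLib.Rel G x y → x ∈ V → y ∈ V := fun x y h hx =>
    (hVmem y).mpr fun z hz => (hVmem x).mp hx z (GrpdLib.Rel.trans G h hz)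
  refine Set.eq_empty_iff_forall_notMem.mpr fun x₀ hx₀ => ?_
  have hex : ∃ r, ∃ x ∈ V, x ∉ F G (r + 1) := by
    obtain ⟨r, -, hr⟩ := exists_stratum G x₀
    exact ⟨r, x₀, hx₀, hr⟩
  obtain ⟨x, hxV, hxF⟩ := Nat.find_spec hex
  set r := Nat.find hex
  have hsub : V ⊆ F G r := by
    intro y hy
    by_contra hyF
    rcases Nat.eq_zero_or_pos r with h0 | h0
    · exact hyF (by rw [h0, F_zero]; trivial)
    · exact Nat.find_min hex (show r - 1 < r by omega)
        ⟨y, hy, by rwa [Nat.sub_add_cancel h0]⟩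
  have hxW : x ∈ Wr G r := (mem_Wr G).mpr fun y hy =>
    ⟨interior_mono hsub (hVo.interior_eq.symm ▸ hVsat x y hy hxV),
      fun hyF => hxF (F_saturated G (r + 1) (GrpdLib.Rel.symm G hy) hyF)⟩
  exact (hVmem x).mp hxV x (GrpdLib.Rel.refl G x) (subset_closure ((mem_W G).mpr ⟨r, hxW⟩))

/-- Orbits of generic points lie in the invariant open. -/
theorem mem_W_of_generic [LocallyOfFinitePresentation G.s] (u : G.U)
    (hu : ∀ r : G.R, G.s r = u → ∀ x : G.U, x ⤳ G.t r → x = G.t r) : u ∈ W G := by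
  obtain ⟨r, hr, hr'⟩ := exists_stratum G u
  refine (mem_W G).mpr ⟨r, (mem_Wr G).mpr fun y hy => ?_⟩
  refine ⟨mem_interior_support_of_generic _ (fitt_fg G.s r) ?_ (F_saturated G r hy hr),
    fun h => hr' (F_saturated G (r + 1) (GrpdLib.Rel.symm G hy) h)⟩
  obtain ⟨q, hq, rfl⟩ := hy
  exact hu q hq

/-- The pieces of the invariant open. -/
def O (r : ℕ) : (W G).toScheme.Opens := (W G).ι ⁻¹ᵁ Wr G r

theorem O_cover (x : (W G).toScheme) : ∃ r, x ∈ O G r := (mem_W G).mp x.2

theorem exists_thickening :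
    ∃ W' : (W G).toScheme.IdealSheafData,
      ∀ r, W'.comap (O G r).ι = (fitt G.s r).comap ((O G r).ι ≫ (W G).ι) :=
  exists_glue_disjoint (O G) (O_cover G)
    (fun i j hij => by
      rw [← Opens.coe_disjoint]
      exact (Opens.coe_disjoint.mpr (Wr_disjoint G hij)).preimage _) _

variable {W' : (W G).toScheme.IdealSheafData}
  (hW' : ∀ r, W'.comap (O G r).ι = (fitt G.s r).comap ((O G r).ι ≫ (W G).ι))

include hW' in
theorem support_eq_top : W'.support = ⊤ := by
  refine eq_top_iff.mpr fun x _ => ?_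
  obtain ⟨r, hr⟩ := O_cover G x
  have h2 : (⟨x, hr⟩ : (O G r).toScheme) ∈ ((fitt G.s r).comap ((O G r).ι ≫ (W G).ι)).support := by
    rw [Scheme.IdealSheafData.support_comap]
    exact (Wr_le_F G hr).1
  rw [← hW' r, Scheme.IdealSheafData.support_comap] at h2
  exact h2

include hW' in
/-- On the `r`-th piece of the thickening the `r`-th Fitting ideal vanishes. -/
theorem comap_piece_eq_bot {Q : Scheme.{u}} (r : ℕ) (q : Q ⟶ W'.subscheme) (m : Q ⟶ (O G r).toScheme)
    (hm : m ≫ (O G r).ι = q ≫ W'.subschemeι) :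
    (fitt G.s r).comap (q ≫ W'.subschemeι ≫ (W G).ι) = ⊥ := by
  rw [← Category.assoc, ← hm, Category.assoc, Scheme.IdealSheafData.comap_comp, ← hW' r,
    ← Scheme.IdealSheafData.comap_comp, hm]
  exact comap_eq_bot_of_lift _ _ q rfl

include hW' in
theorem deg_piece (r : ℕ) :
    Mor2.IsFinLocFreeOfDeg (r + 1)
      (pullback.snd G.s ((W'.subschemeι ⁻¹ᵁ O G r).ι ≫ W'.subschemeι ≫ (W G).ι)) :=
  deg_pullback G _ r
    (comap_piece_eq_bot G hW' r _ (W'.subschemeι ∣_ O G r) (morphismRestrict_ι _ _))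
    fun x => (Wr_le_F G x.2).2

include hW' in
theorem isFinLocFree_s : Mor2.IsFinLocFree (pullback.snd G.s (W'.subschemeι ≫ (W G).ι)) := by
  let g := W'.subschemeι ≫ (W G).ι
  let P : ℕ → W'.subscheme.Opens := fun r => W'.subschemeι ⁻¹ᵁ O G r
  have hcov : ⨆ r, P r = ⊤ := eq_top_iff.mpr fun x _ =>
    Opens.mem_iSup.mpr (O_cover G (W'.subschemeι x))
  have hres : ∀ r, Flat (pullback.snd G.s g ∣_ P r) ∧
      LocallyOfFinitePresentation (pullback.snd G.s g ∣_ P r) := by
    intro r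
    obtain ⟨⟨-, h1, h2⟩, -⟩ := deg_piece G hW' r
    rw [← ((isPullback_morphismRestrict (pullback.snd G.s g) (P r)).flip.paste_horiz
      (IsPullback.of_hasPullback G.s g)).isoPullback_hom_snd]
    exact ⟨inferInstance, inferInstance⟩
  exact ⟨inferInstance, IsZariskiLocalAtTarget.of_iSup_eq_top P hcov fun r => (hres r).1,
    IsZariskiLocalAtTarget.of_iSup_eq_top P hcov fun r => (hres r).2⟩

omit [IsFinite G.t] [IsFinite G.s] in
theorem isFinLocFree_t_of_s {T : Scheme.{u}} (g : T ⟶ G.U)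
    (h : Mor2.IsFinLocFree (pullback.snd G.s g)) : Mor2.IsFinLocFree (pullback.snd G.t g) := by
  obtain ⟨h0, h1, h2⟩ := h
  haveI := GrpdLib.isIso_i G
  have hsq : IsPullback (pullback.fst G.t g ≫ G.i) (pullback.snd G.t g) G.s g := by
    have h := IsPullback.of_horiz_isIso (fst := G.i) (snd := G.t) (f := G.s) (g := 𝟙 G.U)
      ⟨by rw [G.i_s, Category.comp_id]⟩
    simpa using (IsPullback.of_hasPullback G.t g).paste_horiz h
  refine ⟨?_, ?_, ?_⟩ <;> rw [← hsq.isoPullback_hom_snd] <;> infer_instance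

include hW' in
theorem exists_invariance :
    ∃ φ : pullback G.s (W'.subschemeι ≫ (W G).ι) ≅ pullback G.t (W'.subschemeι ≫ (W G).ι),
      φ.hom ≫ pullback.fst G.t (W'.subschemeι ≫ (W G).ι) =
        pullback.fst G.s (W'.subschemeι ≫ (W G).ι) := by
  let g := W'.subschemeι ≫ (W G).ι
  let a := pullback.fst G.s g
  let b := pullback.snd G.s g
  have hcond : a ≫ G.s = b ≫ W'.subschemeι ≫ (W G).ι := pullback.condition
  have hpt : ∀ (x : ↥(pullback G.s g)), GrpdLib.Rel G ((W G).ι (W'.subschemeι (b x))) (G.t (a x)) :=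
    fun x => ⟨a x, congrArg (fun m => m.base x) hcond, rfl⟩
  have hrange : Set.range (a ≫ G.t) ⊆ Set.range (W G).ι := by
    rintro _ ⟨x, rfl⟩
    rw [Scheme.Opens.range_ι]
    exact ((GrpdLib.opens_preimage_eq_iff G _).mp (W_invariant G)) _ _ (hpt x) (W'.subschemeι (b x)).2
  let w := IsOpenImmersion.lift (W G).ι (a ≫ G.t) hrange
  have hw : w ≫ (W G).ι = a ≫ G.t := IsOpenImmersion.lift_fac _ _ _
  let Q : ℕ → (pullback G.s g).Opens := fun r => b ⁻¹ᵁ W'.subschemeι ⁻¹ᵁ O G r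
  have hzero : W'.comap w = ⊥ := by
    refine eq_bot_of_comap_opens Q (fun x => O_cover G (W'.subschemeι (b x))) fun r => ?_
    have hrange' : Set.range ((Q r).ι ≫ w) ⊆ Set.range (O G r).ι := by
      rintro _ ⟨x, rfl⟩
      rw [Scheme.Opens.range_ι]
      show (W G).ι (w x.1) ∈ Wr G r
      rw [← Scheme.Hom.comp_apply, hw]
      exact Wr_saturated G (hpt x.1) x.2
    let m := IsOpenImmersion.lift (O G r).ι ((Q r).ι ≫ w) hrange'
    have hm : m ≫ (O G r).ι = (Q r).ι ≫ w := IsOpenImmersion.lift_fac _ _ _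
    rw [← Scheme.IdealSheafData.comap_comp, ← hm, Scheme.IdealSheafData.comap_comp, hW' r,
      ← Scheme.IdealSheafData.comap_comp, reassoc_of% hm, hw, ← Category.assoc,
      Scheme.IdealSheafData.comap_comp, ← fitt_comap_s_eq_t G r,
      ← Scheme.IdealSheafData.comap_comp, Category.assoc, hcond, ← Category.assoc]
    exact comap_piece_eq_bot G hW' r ((Q r).ι ≫ b) ((b ≫ W'.subschemeι) ∣_ O G r)
      ((morphismRestrict_ι _ _).trans (Category.assoc _ _ _).symm)
  obtain ⟨q, hq⟩ := exists_lift_of_comap_eq_bot W' w hzero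
  exact exists_iso_of_factor G g q (by rw [← hw, ← hq]; simp [g])

include hW' in
theorem lfp_ι [LocallyOfFinitePresentation G.s] : LocallyOfFinitePresentation W'.subschemeι := by
  refine IsZariskiLocalAtTarget.of_iSup_eq_top (O G)
    (eq_top_iff.mpr fun x _ => Opens.mem_iSup.mpr (O_cover G x)) fun r => ?_
  haveI := lfp_subschemeι (fitt G.s r) (fitt_fg G.s r)
  have hJ : LocallyOfFinitePresentation
      (pullback.fst ((O G r).ι ≫ (W G).ι) (fitt G.s r).subschemeι) := inferInstance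
  have hJ' : LocallyOfFinitePresentation ((fitt G.s r).comap ((O G r).ι ≫ (W G).ι)).subschemeι := by
    rw [← Scheme.IdealSheafData.comapIso_hom_fst]
    infer_instance
  rw [← hW' r, ← Scheme.IdealSheafData.comapIso_hom_fst,
    ← (isPullback_morphismRestrict W'.subschemeι (O G r)).isoPullback_inv_fst] at hJ'
  rwa [MorphismProperty.cancel_left_of_respectsIso @LocallyOfFinitePresentation,
    MorphismProperty.cancel_left_of_respectsIso @LocallyOfFinitePresentation] at hJ'

end FittStratLib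

end
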